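import Cfsg.Agent.Lib.InvCentralizers.WeakClosure.Cert

/-! Commutator steps for the roots that are not fundamental. -/

set_option autoImplicit false
set_option maxRecDepth 100000

namespace CfsgLib.InvCentralizers.WeakClosure

open Cfsg.Lie CfsgLib.Chevalley

/-- The steps for type G2. -/
def stepsG2 : List (ℕ × ℕ × ℕ) :=
  [(11, (6, 10)), (10, (7, 6)), (9, (7, 6)), (8, (6, 7))]

theorem stepCertG2 : stepCertB chevG2 true stepsG2 = true := by decide +kernel

theorem sepCertG2 : sepCertB chevG2 true = true := by decide +kernel

/-- The steps for type B2. -/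
def stepsB2 : List (ℕ × ℕ × ℕ) :=
  [(7, (5, 4)), (6, (4, 5))]

theorem stepCertB2 : stepCertB chevB2 true stepsB2 = true := by decide +kernel

theorem sepCertB2 : sepCertB chevB2 true = true := by decide +kernel

/-- The steps for type D4. -/
def stepsD4 : List (ℕ × ℕ × ℕ) :=
  [(23, (14, 22)), (22, (12, 21)), (21, (13, 19)), (20, (12, 19)), (19, (14, 18)), (17, (12, 16)), (16, (13, 14)), (15, (12, 14))]

theorem stepCertD4 : stepCertB chevD4 true stepsD4 = true := by decide +kernel

theorem sepCertD4 : sepCertB chevD4 true = true := by decide +kernel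

/-- The steps for type F4. -/
def stepsF4 : List (ℕ × ℕ × ℕ) :=
  [(47, (24, 46)), (46, (25, 45)), (45, (27, 43)), (44, (27, 43)), (43, (25, 42)), (42, (24, 41)), (41, (33, 30)), (40, (27, 39)), (39, (25, 38)), (38, (24, 37)), (37, (27, 35)), (36, (24, 35)), (35, (25, 34)), (34, (27, 33)), (32, (25, 31)), (31, (24, 30)), (30, (27, 25)), (29, (24, 28)), (28, (25, 27)), (26, (24, 25))]

theorem stepCertF4 : stepCertB chevF4 true stepsF4 = true := by decide +kernel

theorem sepCertF4 : sepCertB chevF4 true = true := by decide +kernel

/-- The steps for type E6. -/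
def stepsE6 : List (ℕ × ℕ × ℕ) :=
  [(71, (46, 70)), (70, (39, 69)), (69, (37, 68)), (68, (36, 67)), (67, (42, 64)), (66, (37, 65)), (65, (36, 64)), (64, (39, 62)), (63, (36, 62)), (62, (37, 61)), (61, (46, 58)), (60, (36, 59)), (59, (37, 58)), (58, (39, 57)), (57, (42, 56)), (55, (37, 54)), (54, (36, 53)), (53, (39, 51)), (52, (36, 51)), (51, (37, 50)), (50, (42, 47)), (49, (36, 48)), (48, (37, 47)), (47, (39, 46)), (45, (36, 44)), (44, (37, 43)), (43, (39, 42)), (41, (36, 40)), (40, (37, 39)), (38, (36, 37))]

theorem stepCertE6 : stepCertB chevE6 false stepsE6 = true := by decide +kernel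

theorem sepCertE6 : sepCertB chevE6 false = true := by decide +kernel

/-- The steps for type E7. -/
def stepsE7 : List (ℕ × ℕ × ℕ) :=
  [(125, (93, 124)), (124, (73, 123)), (123, (69, 122)), (122, (66, 121)), (121, (64, 120)), (120, (63, 119)), (119, (78, 115)), (118, (66, 117)), (117, (64, 116)), (116, (63, 115)), (115, (69, 112)), (114, (64, 113)), (113, (63, 112)), (112, (66, 110)), (111, (63, 110)), (110, (64, 109)), (109, (73, 103)), (108, (64, 107)), (107, (63, 106)), (106, (66, 104)), (105, (63, 104)), (104, (64, 103)), (103, (69, 100)), (102, (63, 101)), (101, (64, 100)), (100, (66, 99)), (99, (78, 95)), (98, (63, 97)), (97, (64, 96)), (96, (66, 95)), (95, (69, 94)), (94, (73, 93)), (92, (64, 91)), (91, (63, 90)), (90, (66, 88)), (89, (63, 88)), (88, (64, 87)), (87, (69, 84)), (86, (63, 85)), (85, (64, 84)), (84, (66, 83)), (83, (73, 79)), (82, (63, 81)), (81, (64, 80)), (80, (66, 79)), (79, (69, 78)), (77, (63, 76)), (76, (64, 75)), (75, (66, 74)), (74, (69, 73)), (72, (63, 71)), (71, (64, 70)), (70, (66, 69)), (68, (63, 67)), (67, (64, 66)), (65, (63,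 64))]

theorem stepCertE7 : stepCertB chevE7 false stepsE7 = true := by decide +kernel

theorem sepCertE7 : sepCertB chevE7 false = true := by decide +kernel

/-- The steps for type E8. -/
def stepsE8 : List (ℕ × ℕ × ℕ) :=
  [(239, (120, 238)), (238, (121, 237)), (237, (123, 236)), (236, (126, 235)), (235, (130, 234)), (234, (135, 233)), (233, (141, 231)), (232, (135, 231)), (231, (130, 230)), (230, (126, 229)), (229, (123, 228)), (228, (121, 227)), (227, (120, 226)), (226, (162, 219)), (225, (141, 224)), (224, (130, 223)), (223, (126, 222)), (222, (123, 221)), (221, (121, 220)), (220, (120, 219)), (219, (135, 214)), (218, (126, 217)), (217, (123, 216)), (216, (121, 215)), (215, (120, 214)), (214, (130, 210)), (213, (123, 212)), (212, (121, 211)), (211, (120, 210)), (210, (126, 207)), (209, (121, 208)), (208, (120, 207)), (207, (123, 205)), (206, (120, 205)), (205, (121, 204)), (204, (141, 194)), (203, (123, 202)), (202, (121, 201)), (201, (120, 200)), (200, (126, 197)), (199, (121, 198)), (198, (120, 197)), (197, (123, 195)), (196, (120, 195)), (195, (121, 194)),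 (194, (130, 188)), (193, (121, 192)), (192, (120, 191)), (191, (123, 189)), (190, (120, 189)), (189, (121, 188)), (188, (126, 185)), (187, (120, 186)), (186, (121, 185)), (185, (123, 184)), (184, (135, 174)), (183, (121, 182)), (182, (120, 181)), (181, (123, 179)), (180, (120, 179)), (179, (121, 178)), (178, (126, 175)), (177, (120, 176)), (176, (121, 175)), (175, (123, 174)), (174, (130, 170)), (173, (120, 172)), (172, (121, 171)), (171, (123, 170)), (170, (126, 169)), (169, (141, 164)), (168, (120, 167)), (167, (121, 166)), (166, (123, 165)), (165, (126, 164)), (164, (130, 163)), (163, (135, 162)), (161, (121, 160)), (160, (120, 159)), (159, (123, 157)), (158, (120, 157)), (157, (121, 156)), (156, (126, 153)), (155, (120, 154)), (154, (121, 153)), (153, (123, 152)), (152, (130, 148)), (151, (120, 150)), (150, (121, 149)), (149, (123, 148)), (148, (126, 147)), (147, (135, 142)), (146, (120, 145)), (145, (121, 144)), (144, (123, 143)), (143, (126, 142)), (142, (130, 141)), (140, (120, 139)), (139, (121, 138)), (138, (123, 137)), (137, (126, 136)), (136, (130, 135)),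 (134, (120, 133)), (133, (121, 132)), (132, (123, 131)), (131, (126, 130)), (129, (120, 128)), (128, (121, 127)), (127, (123, 126)), (125, (120, 124)), (124, (121, 123)), (122, (120, 121))]

theorem stepCertE8 : stepCertB chevE8 false stepsE8 = true := by decide +kernel

theorem sepCertE8 : sepCertB chevE8 false = true := by decide +kernel

end CfsgLib.InvCentralizers.WeakClosure
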